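import Mathlib

/-!
Vectors over the field of three elements packed two bits per coordinate.
-/

set_option autoImplicit false

namespace CfsgLib.KnownB.G2Three

/-- coordinate -/
def gv (v i : ℕ) : ℕ := v / 4 ^ i % 4

/-- packing of the first `n` values -/
def pk : ℕ → (ℕ → ℕ) → ℕ
  | 0, _ => 0
  | n + 1, f => f 0 % 4 + 4 * pk n (fun i => f (i + 1))

theorem gv_pk : ∀ (n : ℕ) (f : ℕ → ℕ) {i : ℕ}, i < n → gv (pk n f) i = f i % 4
  | n + 1, f, 0, _ => by simp [gv, pk]
  | n + 1, f, i + 1, h => by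
    have ih := gv_pk n (fun j => f (j + 1)) (i := i) (by omega)
    rw [← ih]
    simp only [gv, pk, pow_succ']
    rw [← Nat.div_div_eq_div_mul, Nat.add_mul_div_left _ _ (by norm_num),
      Nat.div_eq_of_lt (Nat.mod_lt _ (by norm_num)), zero_add]

theorem pk_congr : ∀ {n : ℕ} {f g : ℕ → ℕ}, (∀ i < n, f i % 4 = g i % 4) → pk n f = pk n g
  | 0, _, _, _ => rfl
  | n + 1, f, g, h => by
    rw [pk, pk, h 0 (Nat.succ_pos _), pk_congr (n := n) (f := fun i => f (i + 1)) (g := fun i => g (i + 1))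
      fun i hi => h (i + 1) (Nat.succ_lt_succ hi)]

theorem cast_mod_four (m : ℕ) : ((m % 3 % 4 : ℕ) : ZMod 3) = m := by
  rw [Nat.mod_eq_of_lt (lt_trans (Nat.mod_lt m (by norm_num)) (by norm_num)), ZMod.natCast_mod]

end CfsgLib.KnownB.G2Three
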